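import Groth.Agent.Neron.K531.Defs
import Groth.Agent.CycB.RelDim4
import Groth.Agent.Variety.K432.CurveLift
import Mathlib.AlgebraicGeometry.Morphisms.Flat

/-!
# Components of dimension one and base change of the ground field (job 332)
-/

set_option autoImplicit false

universe u

open CategoryTheory CategoryTheory.Limits AlgebraicGeometry TopologicalSpace K531.Defs

namespace Groth.Agent.Neron.K711.DimBC

/-- The closure of a point without proper generizations is an irreducible component. -/
theorem closure_mem {X : Type u} [TopologicalSpace X] [QuasiSober X] [T0Space X] (x : X)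
    (hx : ∀ y : X, y ⤳ x → y = x) : closure {x} ∈ irreducibleComponents X := by
  refine ⟨isIrreducible_singleton.closure, ?_⟩
  intro s hs hle
  obtain ⟨t, ht⟩ := QuasiSober.sober hs.closure isClosed_closure
  have h1 : t ⤳ x := by
    rw [specializes_iff_mem_closure, ht.def]
    exact subset_closure (hle (subset_closure rfl))
  rw [hx t h1] at ht
  rw [ht.def]
  exact subset_closure

/-- The generic point of an irreducible component. -/
theorem exists_gen {X : Type u} [TopologicalSpace X] [QuasiSober X] [T0Space X] (W : Set X)
    (hW : W ∈ irreducibleComponents X) : ∃ x : X, W = closure {x} ∧ ∀ y : X, y ⤳ x → y = x := by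
  obtain ⟨x, hx⟩ := QuasiSober.sober hW.1 (isClosed_of_mem_irreducibleComponents W hW)
  refine ⟨x, hx.def.symm, fun y hy => ?_⟩
  have h1 : W ⊆ closure {y} := by
    rw [← hx.def]
    exact closure_minimal (by simpa using specializes_iff_mem_closure.1 hy) isClosed_closure
  have h2 : closure {y} ⊆ W := hW.2 isIrreducible_singleton.closure h1
  have h3 : x ⤳ y := by
    rw [specializes_iff_mem_closure, hx.def]
    exact h2 (subset_closure rfl)
  exact (hy.antisymm h3).eq

/-- If all irreducible components of `C` have dimension one, so have those of `C_F`, for every field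
extension `F/K`. -/
theorem dim_bc {K F : Type u} [Field K] [Field F] [Algebra K F] {C : Scheme.{u}} (g : C ⟶ Spec (CommRingCat.of K))
    [LocallyOfFiniteType g] (hdim : ∀ W ∈ irreducibleComponents (C : Type u), topologicalKrullDim W = 1) :
    ∀ W ∈ irreducibleComponents (↥(pullback g (sp K F))), topologicalKrullDim W = 1 := by
  intro W hW
  obtain ⟨w, rfl, hw⟩ := exists_gen W hW
  have hflat : Flat (sp K F) := by
    unfold sp
    infer_instance
  have hfl : Flat (pullback.fst g (sp K F)) := inferInstance
  have hx : ∀ y, y ⤳ pullback.fst g (sp K F) w → y = pullback.fst g (sp K F) w := by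
    intro y hy
    obtain ⟨y', hy', rfl⟩ := Flat.generalizingMap (pullback.fst g (sp K F)) hy
    rw [hw y' hy']
  have h1 := hdim _ (closure_mem _ hx)
  have h2 := (K432.CurveLift.dim_closure_iff g _ 1).1 (by exact_mod_cast h1)
  have h3 := Groth.Agent.CycB.RelDim.rtd_snd_eq (f := g) (g := sp K F) w (fun t' _ _ ht' => hw t' ht')
  have h4 := (K432.CurveLift.dim_closure_iff (pullback.snd g (sp K F)) w 1).2 (h3.trans h2)
  exact_mod_cast h4

end Groth.Agent.Neron.K711.DimBC
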